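import Cfsg.Agent.Lib.Lie.Eigen
import Cfsg.Agent.Lib.FGS.Regular

/-!
# The Lie ring associated with a strongly central series of a group; Higman's theorem for groups
-/

set_option autoImplicit false

namespace Cfsg.Lib.Lie

open Subgroup
open scoped commutatorElement

/-- A descending series with `⁅H i, H j⁆ ≤ H (i + j + 1)`. -/
structure Ser (G : Type*) [Group G] where
  H : ℕ → Subgroup G
  anti : Antitone H
  comm : ∀ {i j x y}, x ∈ H i → y ∈ H j → ⁅x, y⁆ ∈ H (i + j + 1)

variable {G : Type*} [Group G]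

/-- The lower central series of a subgroup. -/
def lcsSer (K : Subgroup G) : Ser G :=
  ⟨K.lowerCentralSeries, K.lowerCentralSeries_antitone, fun hx hy =>
    RegP.comm_lcs_le K _ _ (commutator_mem_commutator hx hy)⟩

namespace Ser

variable (S : Ser G)

/-- The defining relations of the associated Lie ring. -/
def rel : AddSubgroup (FreeAbelianGroup (ℕ × G)) := .closure
  ({x | ∃ i g h, g ∈ S.H i ∧ h ∈ S.H i ∧ x = .of (i, g * h) - (.of (i, g) + .of (i, h))} ∪
    {x | ∃ i g, (g ∈ S.H (i + 1) ∨ g ∉ S.H i) ∧ x = .of (i, g)})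

/-- The associated Lie ring `⨁ H i ⧸ H (i + 1)`. -/
def Gr := FreeAbelianGroup (ℕ × G) ⧸ S.rel

noncomputable instance grAddCommGroup : AddCommGroup S.Gr := inferInstanceAs (AddCommGroup (_ ⧸ S.rel))

/-- The class of `g ∈ H i` in `H i ⧸ H (i + 1)`. -/
def sym (i : ℕ) (g : G) : S.Gr := QuotientAddGroup.mk (.of (i, g))

variable {S} {i j k : ℕ} {g h x y z : G} {A : Type*} [AddCommGroup A]

theorem sym_mul (hg : g ∈ S.H i) (hh : h ∈ S.H i) : S.sym i (g * h) = S.sym i g + S.sym i h :=
  QuotientAddGroup.eq_iff_sub_mem.2 (AddSubgroup.subset_closure (.inl ⟨i, g, h, hg, hh, rfl⟩))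

theorem sym_of_succ (hg : g ∈ S.H (i + 1)) : S.sym i g = 0 :=
  (QuotientAddGroup.eq_zero_iff _).2 (AddSubgroup.subset_closure (.inr ⟨i, g, .inl hg, rfl⟩))

theorem sym_of_not (hg : g ∉ S.H i) : S.sym i g = 0 :=
  (QuotientAddGroup.eq_zero_iff _).2 (AddSubgroup.subset_closure (.inr ⟨i, g, .inr hg, rfl⟩))

theorem sym_one : S.sym i 1 = 0 := sym_of_succ (one_mem _)

theorem sym_inv (hg : g ∈ S.H i) : S.sym i g⁻¹ = -S.sym i g :=
  eq_neg_of_add_eq_zero_left (by rw [← sym_mul (inv_mem hg) hg, inv_mul_cancel, sym_one])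

theorem sym_pow (hg : g ∈ S.H i) : ∀ n : ℕ, S.sym i (g ^ n) = n • S.sym i g
  | 0 => by simp [sym_one]
  | n + 1 => by rw [pow_succ, sym_mul (pow_mem hg n) hg, sym_pow hg n, succ_nsmul]

theorem conj_mem (hg : g ∈ S.H i) (hx : x ∈ S.H j) : g * x * g⁻¹ ∈ S.H j := by
  simpa [commutatorElement_def] using mul_mem (S.anti (by omega : j ≤ i + j + 1) (S.comm hg hx)) hx

theorem sym_conj (hg : g ∈ S.H i) (hx : x ∈ S.H j) : S.sym j (g * x * g⁻¹) = S.sym j x := by
  have := sym_mul (S.anti (by omega : j ≤ i + j + 1) (S.comm hg hx)) hx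
  rwa [sym_of_succ (S.anti (by omega : j + 1 ≤ i + j + 1) (S.comm hg hx)), zero_add, commutatorElement_def,
    inv_mul_cancel_right] at this

theorem induction {p : S.Gr → Prop} (x : S.Gr) (h0 : p 0) (h1 : ∀ i, ∀ g ∈ S.H i, p (S.sym i g))
    (h2 : ∀ x y, p x → p y → p (x + y)) : p x := by
  have h3 : ∀ i g, p (S.sym i g) ∧ p (-S.sym i g) := fun i g => by
    by_cases hg : g ∈ S.H i
    · exact ⟨h1 i g hg, sym_inv hg ▸ h1 i _ (inv_mem hg)⟩
    · simp [sym_of_not hg, h0]
  obtain ⟨x, rfl⟩ := QuotientAddGroup.mk_surjective x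
  induction x using FreeAbelianGroup.induction_on with
  | zero => exact h0
  | of x => exact (h3 _ _).1
  | neg x _ => exact (h3 _ _).2
  | add x y hx hy => exact h2 _ _ hx hy

theorem hom_ext {f f' : S.Gr →+ A} (h : ∀ i, ∀ g ∈ S.H i, f (S.sym i g) = f' (S.sym i g)) : f = f' :=
  AddMonoidHom.ext fun x => induction (p := fun x => f x = f' x) x (by simp) h fun x y hx hy => by rw [map_add, map_add, hx, hy]

open Classical in
/-- The universal property of the associated Lie ring as an additive group. -/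
noncomputable def lift (f : ℕ → G → A) (h1 : ∀ i, ∀ g ∈ S.H i, ∀ h ∈ S.H i, f i (g * h) = f i g + f i h)
    (h2 : ∀ i, ∀ g ∈ S.H (i + 1), f i g = 0) : S.Gr →+ A :=
  QuotientAddGroup.lift _ (FreeAbelianGroup.lift fun x => if x.2 ∈ S.H x.1 then f x.1 x.2 else 0)
    ((AddSubgroup.closure_le _).2 (by
      rintro _ (⟨i, g, h, hg, hh, rfl⟩ | ⟨i, g, hg | hg, rfl⟩)
      · simp [hg, hh, mul_mem hg hh, h1 i g hg h hh]
      · simp [h2 i g hg]
      · simp [hg]))

theorem lift_sym {f : ℕ → G → A} {h1 h2} (hg : g ∈ S.H i) : lift f h1 h2 (S.sym i g) = f i g :=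
  (QuotientAddGroup.lift_mk ..).trans (by simp [hg])

theorem mem_of_sym_eq_zero (hg : g ∈ S.H i) (h : S.sym i g = 0) : g ∈ S.H (i + 1) := by
  classical
  set K := (S.H (i + 1)).subgroupOf (S.H i)
  let π := (QuotientGroup.mk' (K.map Abelianization.of)).comp Abelianization.of
  have := congrArg (lift (fun j x => if h : j = i ∧ x ∈ S.H i then Additive.ofMul (π ⟨x, h.2⟩) else 0)
    (fun j x hx y hy => by
      rcases eq_or_ne j i with rfl | e
      · simp only [hx, hy, mul_mem hx hy, and_self, dite_true]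
        exact congrArg Additive.ofMul (map_mul π ⟨x, hx⟩ ⟨y, hy⟩)
      · simp [e])
    fun j x hx => by
      rcases eq_or_ne j i with rfl | e
      · rw [dif_pos ⟨rfl, S.anti j.le_succ hx⟩]
        exact (QuotientGroup.eq_one_iff _).2 (mem_map_of_mem _ hx)
      · simp [e]) h
  rw [lift_sym hg, dif_pos ⟨rfl, hg⟩, map_zero] at this
  have : (⟨g, hg⟩ : S.H i) ∈ (K.map Abelianization.of).comap Abelianization.of :=
    (QuotientGroup.eq_one_iff (Abelianization.of (⟨g, hg⟩ : S.H i))).1 this
  rw [comap_map_eq, Abelianization.ker_of, _root_.commutator, sup_eq_left.2 (commutator_le.2 fun (a : S.H i) _ b _ =>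
    S.anti (by omega : i + 1 ≤ i + i + 1) (S.comm a.2 b.2))] at this
  exact this

theorem sym_comm_mul_left (hg : g ∈ S.H i) (hh : h ∈ S.H i) (hx : x ∈ S.H j) :
    S.sym (i + j + 1) ⁅g * h, x⁆ = S.sym (i + j + 1) ⁅g, x⁆ + S.sym (i + j + 1) ⁅h, x⁆ := by
  rw [add_comm (S.sym _ _), ← sym_conj hg (S.comm hh hx), ← sym_mul (conj_mem hg (S.comm hh hx)) (S.comm hg hx)]
  congr 1
  group

theorem sym_comm_skew (hg : g ∈ S.H i) (hx : x ∈ S.H j) : S.sym (i + j + 1) ⁅g, x⁆ = -S.sym (j + i + 1) ⁅x, g⁆ := by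
  rw [← sym_inv (S.comm hx hg), commutatorElement_inv, add_comm i]

/-- The bracket. -/
noncomputable def bra : S.Gr →+ S.Gr →+ S.Gr := by
  classical
  exact lift (fun i g => if hg : g ∈ S.H i then lift (fun j x => S.sym (i + j + 1) ⁅g, x⁆)
      (fun j x hx y hy => by
        rw [sym_comm_skew hg (mul_mem hx hy), sym_comm_mul_left hx hy hg, neg_add, sym_comm_skew hg hx,
          sym_comm_skew hg hy]) (fun j x hx => sym_of_succ (S.comm (j := j + 1) hg hx)) else 0)
    (fun i g hg h hh => hom_ext fun j x hx => by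
      simp only [hg, hh, mul_mem hg hh, dite_true, AddMonoidHom.add_apply, lift_sym hx, sym_comm_mul_left hg hh hx])
    fun i g hg => hom_ext fun j x hx => by
      rw [dif_pos (S.anti i.le_succ hg), lift_sym hx]
      exact sym_of_succ (S.anti (by omega) (S.comm hg hx))

theorem bra_sym (hg : g ∈ S.H i) (hx : x ∈ S.H j) : bra (S.sym i g) (S.sym j x) = S.sym (i + j + 1) ⁅g, x⁆ := by
  rw [bra, lift_sym hg, dif_pos hg, lift_sym hx]

theorem bra_skew (a b : S.Gr) : bra a b = -bra b a := by
  have : bra (S := S) = -bra.flip := hom_ext fun i g hg => hom_ext fun j x hx => by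
    simp [bra_sym hg hx, bra_sym hx hg, sym_comm_skew hg hx]
  nth_rw 1 [this]
  rfl

theorem jacobi_sym (hx : x ∈ S.H i) (hy : y ∈ S.H j) (hz : z ∈ S.H k) :
    bra (bra (S.sym i x) (S.sym j y)) (S.sym k z) + bra (bra (S.sym j y) (S.sym k z)) (S.sym i x) +
      bra (bra (S.sym k z) (S.sym i x)) (S.sym j y) = 0 := by
  have h1 := S.comm (S.comm hx hy) (conj_mem hy hz)
  have h2 := S.comm (S.comm hy hz) (conj_mem hz hx)
  have h3 := S.comm (S.comm hz hx) (conj_mem hx hy)
  rw [bra_sym hx hy, bra_sym hy hz, bra_sym hz hx, ← sym_conj hy hz, ← sym_conj hz hx, ← sym_conj hx hy,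
    bra_sym (S.comm hx hy) (conj_mem hy hz), bra_sym (S.comm hy hz) (conj_mem hz hx),
    bra_sym (S.comm hz hx) (conj_mem hx hy)]
  rw [show j + k + 1 + i + 1 = i + j + 1 + k + 1 by omega] at h2 ⊢
  rw [show k + i + 1 + j + 1 = i + j + 1 + k + 1 by omega] at h3 ⊢
  rw [← sym_mul h1 h2, ← sym_mul (mul_mem h1 h2) h3, ← sym_one (i := i + j + 1 + k + 1)]
  congr 1
  group

noncomputable instance grLieRing : LieRing S.Gr where
  bracket a b := bra a b
  add_lie a b c := by simp
  lie_add a := map_add _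
  lie_self a := induction (p := fun a => bra a a = 0) a (by simp) (fun i g hg => (bra_sym hg hg).trans (by simp [sym_one])) fun x y hx hy => by
    simp [hx, hy, bra_skew x y]
  leibniz_lie a b c := by
    change bra a (bra b c) = bra (bra a b) c + bra b (bra a c)
    rw [bra_skew a, bra_skew b (bra a c), bra_skew a c, map_neg, AddMonoidHom.neg_apply, neg_neg,
      neg_eq_iff_add_eq_zero, ← add_assoc, add_comm (bra _ a)]
    induction a using induction with
    | h0 => simp
    | h2 _ _ h h' => linear_combination (norm := (simp only [map_add, AddMonoidHom.add_apply]; abel)) h + h'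
    | h1 i x hx =>
    induction b using induction with
    | h0 => simp
    | h2 _ _ h h' => linear_combination (norm := (simp only [map_add, AddMonoidHom.add_apply]; abel)) h + h'
    | h1 j y hy =>
    induction c using induction with
    | h0 => simp
    | h2 _ _ h h' => linear_combination (norm := (simp only [map_add, AddMonoidHom.add_apply]; abel)) h + h'
    | h1 k z hz => exact jacobi_sym hx hy hz

theorem lie_sym (hg : g ∈ S.H i) (hx : x ∈ S.H j) : ⁅S.sym i g, S.sym j x⁆ = S.sym (i + j + 1) ⁅g, x⁆ := bra_sym hg hx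

/-- The endomorphism of the associated Lie ring induced by an endomorphism of the group. -/
theorem exists_end (α : G →* G) (hα : ∀ i, ∀ g ∈ S.H i, α g ∈ S.H i) : ∃ φ : Module.End ℤ S.Gr,
    (∀ x y, φ ⁅x, y⁆ = ⁅φ x, φ y⁆) ∧ ∀ n i, ∀ g ∈ S.H i, (φ ^ n) (S.sym i g) = S.sym i (α^[n] g) := by
  let f := lift (S := S) (fun i g => S.sym i (α g)) (fun i g hg h hh => by rw [map_mul, sym_mul (hα _ _ hg) (hα _ _ hh)])
    fun i g hg => sym_of_succ (hα _ _ hg)
  have hf : ∀ {i g}, g ∈ S.H i → f (S.sym i g) = S.sym i (α g) := lift_sym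
  refine ⟨f.toIntLinearMap, fun x y => ?_, fun n => ?_⟩
  · change f _ = ⁅f x, f y⁆
    induction x using induction with
    | h0 => simp
    | h2 _ _ h h' => simp [h, h']
    | h1 i x hx =>
    induction y using induction with
    | h0 => simp
    | h2 _ _ h h' => simp [h, h']
    | h1 j y hy => rw [lie_sym hx hy, hf hx, hf hy, hf (S.comm hx hy), lie_sym (hα _ _ hx) (hα _ _ hy),
      map_commutatorElement]
  · induction n with
    | zero => simp
    | succ n ih =>
      intro i g hg
      rw [pow_succ, Module.End.mul_apply, AddMonoidHom.coe_toIntLinearMap, hf hg, ih _ _ (hα _ _ hg),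
        Function.iterate_succ_apply]

end Ser

theorem sym_mem_lc (K : Subgroup G) (n : ℕ) : ∀ g ∈ K.lowerCentralSeries n, (lcsSer K).sym n g ∈ lc (lcsSer K).Gr n := by
  induction n with
  | zero => exact fun _ _ => trivial
  | succ n ih =>
    intro g hg
    rw [Subgroup.lowerCentralSeries_succ, Subgroup.commutator_def] at hg
    induction hg using closure_induction with
    | mem x hx =>
      obtain ⟨a, ha, b, hb, rfl⟩ := hx
      exact Ser.lie_sym (S := lcsSer K) (j := 0) ha hb ▸ lie_mem_lc (ih a ha) _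
    | one => rw [Ser.sym_one]; exact zero_mem _
    | mul x y hx hy h h' => rw [Ser.sym_mul hx hy]; exact add_mem h h'
    | inv x hx h => rw [Ser.sym_inv hx]; exact neg_mem h

/-- Higman's theorem for groups: `α` is an endomorphism with `α ^ p = 1` on the invariant subgroup `K`, and `m` is an
exponent for the fixed points of `α` on the lower central factors of `K` (of the form `g α(g) ⋯ α^(p-1)(g)`). -/
theorem pow_mem_lcs_succ {p : ℕ} [Fact p.Prime] {K : Subgroup G} (α : G →* G) (hK : ∀ g ∈ K, α g ∈ K)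
    (hα : ∀ g ∈ K, α^[p] g = g) {m : ℕ} (hm : ∀ i, ∀ g ∈ K.lowerCentralSeries i,
      ((List.range p).map (α^[·] g)).prod ^ m ∈ K.lowerCentralSeries (i + 1)) {c : ℕ} (hc : IsBound p c) {g : G}
    (hg : g ∈ K.lowerCentralSeries c) : g ^ (m * p ^ (c + 2)) ∈ K.lowerCentralSeries (c + 1) := by
  have h1 : ∀ i, ∀ g ∈ (lcsSer K).H i, α g ∈ (lcsSer K).H i := fun i g hg =>
    lowerCentralSeries_mono i (map_le_iff_le_comap.2 hK) ((map_lowerCentralSeries K α i).le (mem_map_of_mem α hg))
  obtain ⟨φ, h2, h3⟩ := Ser.exists_end α h1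
  refine Ser.mem_of_sym_eq_zero (S := lcsSer K) (pow_mem hg _) ?_
  rw [Ser.sym_pow hg]
  refine smul_lc_eq_zero h2 (LinearMap.ext fun x => ?_) (fun x => ?_) hc (sym_mem_lc K c g hg)
  · induction x using Ser.induction with
    | h0 => simp
    | h2 _ _ h h' => rw [map_add, map_add, h, h']
    | h1 i g hg => rw [h3 _ _ _ hg, hα g (K.lowerCentralSeries_le_self i hg), Module.End.one_apply]
  · induction x using Ser.induction with
    | h0 => simp
    | h2 _ _ h h' => rw [map_add, smul_add, h, h', add_zero]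
    | h1 i g hg =>
      have : ∀ n, ((List.range n).map (α^[·] g)).prod ∈ (lcsSer K).H i ∧ (∑ j ∈ .range n, φ ^ j) ((lcsSer K).sym i g) =
          (lcsSer K).sym i ((List.range n).map (α^[·] g)).prod := fun n => by
        induction n with
        | zero => simp [Ser.sym_one]
        | succ n ih =>
          have : α^[n] g ∈ (lcsSer K).H i := Function.Iterate.rec _ hg (h1 i) n
          rw [List.range_succ, List.map_append, List.prod_append, List.map_singleton, List.prod_singleton,
            Finset.sum_range_succ, LinearMap.add_apply, ih.2, h3 _ _ _ hg, Ser.sym_mul ih.1 this]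
          exact ⟨mul_mem ih.1 this, rfl⟩
      rw [(this p).2, ← Ser.sym_pow (this p).1, Ser.sym_of_succ (hm i g hg)]

end Cfsg.Lib.Lie
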