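import Cfsg.Agent.Lib.Lie.Graded

/-!
# Lie rings with an automorphism of prime order (Higman, Kreknin, Kostrikin)
-/

set_option autoImplicit false

namespace Cfsg.Lib.Lie

open Polynomial Module TensorProduct

/-- The Higman–Kreknin–Kostrikin bound for the nilpotency class, improved for `p = 3`. -/
def IsBound (p c : ℕ) : Prop := c = ∑ i ∈ .range (2 ^ (p - 1) - 1), (p - 1) ^ i ∨ p = 3 ∧ c = 2

theorem IsBound.lcs_eq_bot {L : Type*} [LieRing L] {p c : ℕ} [Fact p.Prime] (h : IsBound p c)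
    {M : ZMod p → AddSubgroup L} (hM : br M M ≤ M) (h0 : M 0 = ⊥) : lcs M c = ⊥ := by
  obtain rfl | ⟨rfl, rfl⟩ := h
  exacts [higman hM h0, lcs_two_eq_bot hM h0]

/-- The (ungraded) lower central series of a Lie ring. -/
def lc (L : Type*) [LieRing L] (n : ℕ) : AddSubgroup L := lcs (fun _ : Unit => ⊤) n ()

theorem lie_mem_lc {L : Type*} [LieRing L] {n : ℕ} {x : L} (hx : x ∈ lc L n) (y : L) : ⁅x, y⁆ ∈ lc L (n + 1) :=
  lie_mem_br (i := ()) (j := ()) hx trivial

theorem smul_mem_iSup_lcs {L L' ι : Type*} [LieRing L] [LieRing L'] [AddCommGroup ι] (ψ : L →+ L')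
    (hψ : ∀ x y, ψ ⁅x, y⁆ = ⁅ψ x, ψ y⁆) {E : ι → AddSubgroup L'} {p : ℕ} (h : ∀ x, p • ψ x ∈ ⨆ k, E k) (n : ℕ) :
    ∀ x ∈ lc L n, p ^ (n + 1) • ψ x ∈ ⨆ k, lcs E n k := by
  induction n with
  | zero => exact fun x _ => by simpa [lcs] using h x
  | succ n ih =>
    intro x hx
    refine br_le' (X := (⨆ k, lcs E (n + 1) k).comap ((nsmulAddMonoidHom (p ^ (n + 1 + 1))).comp ψ)) ?_ hx
    intro _ _ a b _ ha _
    have e : p ^ (n + 1 + 1) • ψ ⁅a, b⁆ = ⁅p ^ (n + 1) • ψ a, p • ψ b⁆ := by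
      rw [hψ, pow_succ, mul_smul, nsmul_lie, lie_nsmul]
    change p ^ (n + 1 + 1) • ψ ⁅a, b⁆ ∈ ⨆ k, lcs E (n + 1) k
    rw [e]
    refine iSup_le (f := lcs E n) (a := (⨆ k, lcs E (n + 1) k).comap (rb _)) (fun i u hu => ?_) (ih a ha)
    refine iSup_le (f := E) (a := (⨆ k, lcs E (n + 1) k).comap (lb u)) (fun j v hv => ?_) (h b)
    exact le_iSup (lcs E (n + 1)) _ (lie_mem_br hu hv)

variable {p : ℕ} [hp : Fact p.Prime]

theorem sum_zmod {M : Type*} [AddCommMonoid M] (f : ℕ → M) : ∑ a : ZMod p, f a.val = ∑ i ∈ .range p, f i := by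
  obtain ⟨n, rfl⟩ := Nat.exists_eq_succ_of_ne_zero hp.1.ne_zero
  exact Fin.sum_univ_eq_sum_range f (n + 1)

theorem eigen {R L L' : Type*} [CommRing R] [LieRing L] [LieRing L'] [LieAlgebra R L'] {ω : R}
    (hω : ∑ i ∈ .range p, ω ^ i = 0) {Φ : End R L'} (h1 : ∀ x y, Φ ⁅x, y⁆ = ⁅Φ x, Φ y⁆) (h2 : Φ ^ p = 1) {m : ℕ}
    (h3 : ∀ x, m • (∑ j ∈ .range p, Φ ^ j) x = 0) (ψ : L →+ L') (hψ : ∀ x y, ψ ⁅x, y⁆ = ⁅ψ x, ψ y⁆) {c : ℕ}
    (hc : IsBound p c) {x : L} (hx : x ∈ lc L c) : (m * p ^ (c + 2)) • ψ x = 0 := by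
  have hω' : ω ^ p = 1 := sub_eq_zero.1 (by rw [← mul_geom_sum, hω, mul_zero])
  let χ := AddChar.zmodChar p hω'
  have hχ : ∀ a : ZMod p, a ≠ 0 → ∑ i, χ (-i * a) = 0 := fun a ha =>
    (((Equiv.neg _).trans (Equiv.mulRight₀ a ha)).sum_comp χ).trans ((sum_zmod (ω ^ ·)).trans hω)
  let J : LieIdeal R L' :=
    { LinearMap.ker ((m * p) • LinearMap.id : End R L') with
      lie_mem := fun {x y} hy => by
        change (m * p) • y = 0 at hy
        change (m * p) • ⁅x, y⁆ = 0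
        rw [← lie_nsmul, hy, lie_zero] }
  let π : L' →+ L' ⧸ J := (LieSubmodule.Quotient.mk' J).toLinearMap.toAddMonoidHom
  have hπ : ∀ x, π x = 0 ↔ (m * p) • x = 0 := fun x => LieSubmodule.Quotient.mk_eq_zero J
  let E : ZMod p → AddSubgroup (L' ⧸ J) := fun i => (LinearMap.eqLocus Φ (χ i • 1)).toAddSubgroup.map π
  have hE : br E E ≤ E := br_le.2 (by
    rintro i j _ _ ⟨a, ha : Φ a = χ i • a, rfl⟩ ⟨b, hb : Φ b = χ j • b, rfl⟩
    refine ⟨⁅a, b⁆, (?_ : Φ _ = χ _ • ⁅a, b⁆), rfl⟩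
    rw [h1, ha, hb, smul_lie, lie_smul, smul_smul, AddChar.map_add_eq_mul])
  have h0 : E 0 = ⊥ := eq_bot_iff.2 (by
    rintro _ ⟨a, ha : Φ a = χ 0 • a, rfl⟩
    rw [AddChar.map_zero_eq_one, one_smul] at ha
    rw [AddSubgroup.mem_bot, hπ, mul_smul, ← h3 a, LinearMap.sum_apply,
      Finset.sum_congr rfl fun j _ => (End.pow_apply Φ j a).trans (Function.iterate_fixed ha j)]
    simp)
  have h4 : ∀ a : ZMod p, Φ ^ (a + 1).val = Φ * Φ ^ a.val := fun a => by
    rw [ZMod.val_add, ← pow_eq_pow_mod _ h2, ZMod.val_one, pow_succ']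
  have h5 : ∀ y, p • π y ∈ ⨆ k, E k := fun y => by
    have : p • y = ∑ i : ZMod p, ∑ a : ZMod p, χ (-i * a) • (Φ ^ a.val) y := by
      rw [Finset.sum_comm, Finset.sum_eq_single 0 (fun a _ ha => by rw [← Finset.sum_smul, hχ a ha, zero_smul])
        (by simp)]
      simp
    rw [← map_nsmul, this, map_sum]
    refine sum_mem fun i _ => le_iSup E i ⟨_, (?_ : Φ _ = χ i • _), rfl⟩
    rw [map_sum, End.one_apply, Finset.smul_sum, ← Equiv.sum_comp (Equiv.addRight (1 : ZMod p))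
      fun a => χ i • χ (-i * a) • (Φ ^ a.val) y]
    refine Finset.sum_congr rfl fun a _ => ?_
    rw [Equiv.coe_addRight, h4, smul_smul, ← AddChar.map_add_eq_mul, map_smul, End.mul_apply]
    congr 2
    ring
  have := smul_mem_iSup_lcs (π.comp ψ) (fun x y => by rw [AddMonoidHom.comp_apply, hψ]; rfl) (fun x => h5 _) c x hx
  rw [hc.lcs_eq_bot hE h0] at this
  simp only [Pi.bot_apply, iSup_bot, AddSubgroup.mem_bot, AddMonoidHom.comp_apply] at this
  rwa [← map_nsmul, hπ, ← mul_smul, mul_assoc, ← pow_succ'] at this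

/-- Higman's theorem for a Lie ring with an automorphism `φ` of prime order `p`: if `m` kills the image of
`1 + φ + ⋯ + φ ^ (p - 1)`, then `m p ^ (c + 2)` kills the `c`-th term of the lower central series. -/
theorem smul_lc_eq_zero {L : Type*} [LieRing L] {φ : End ℤ L} (h1 : ∀ x y, φ ⁅x, y⁆ = ⁅φ x, φ y⁆) (h2 : φ ^ p = 1)
    {m : ℕ} (h3 : ∀ x, m • (∑ j ∈ .range p, φ ^ j) x = 0) {c : ℕ} (hc : IsBound p c) {x : L} (hx : x ∈ lc L c) :
    (m * p ^ (c + 2)) • x = 0 := by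
  set P : ℤ[X] := ∑ i ∈ .range p, X ^ i
  have hP : P.Monic := monic_geom_sum_X hp.1.ne_zero
  have := eigen (p := p) (ω := AdjoinRoot.root P) (by simpa [P] using AdjoinRoot.mk_self (f := P))
    (Φ := φ.baseChange (AdjoinRoot P)) (fun x y => by
      induction x with
      | zero => simp
      | add a b ha hb => simp [ha, hb]
      | tmul r x =>
        induction y with
        | zero => simp
        | add a b ha hb => simp [ha, hb]
        | tmul s y => simp [h1]) (by rw [← LinearMap.baseChange_pow, h2, LinearMap.baseChange_one]) (m := m)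
    (fun x => by
      induction x with
      | zero => simp
      | add a b ha hb => rw [map_add, smul_add, ha, hb, add_zero]
      | tmul r x =>
        simp_rw [LinearMap.sum_apply, ← LinearMap.baseChange_pow, LinearMap.baseChange_tmul, ← tmul_sum,
          ← LinearMap.sum_apply]
        exact (map_nsmul (TensorProduct.mk ℤ _ L r) m _).symm.trans (by rw [h3, map_zero]))
    (TensorProduct.mk ℤ _ L 1).toAddMonoidHom (fun x y => by simp) hc hx
  have h4 : (lcoeff ℤ 0 ∘ₗ AdjoinRoot.modByMonicHom hP) 1 = 1 := by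
    rw [LinearMap.comp_apply, ← map_one (AdjoinRoot.mk P), AdjoinRoot.modByMonicHom_mk,
      (modByMonic_eq_self_iff hP).2]
    · simp
    · rw [degree_one, ← natDegree_pos_iff_degree_pos, hP.natDegree_pos]
      intro h
      have := congrArg (eval 1) h
      simp only [P, eval_geom_sum, eval_X, one_geom_sum, eval_one, Nat.cast_eq_one] at this
      exact hp.1.ne_one this
  simpa [h4] using congrArg (TensorProduct.lid ℤ L ∘ (lcoeff ℤ 0 ∘ₗ AdjoinRoot.modByMonicHom hP).rTensor L) this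

end Cfsg.Lib.Lie
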