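import Mathlib

/-!
# `ℤ/n`-graded Lie rings with trivial zero component: theorems of Kreknin and Higman–Kostrikin

A "graded subgroup" of a Lie ring `L` is a family `ι → AddSubgroup L`; the sum of the family need not be direct.
-/

set_option autoImplicit false

namespace Cfsg.Lib.Lie

variable {L : Type*} [LieRing L]

/-- Right bracket as an additive map. -/
def rb (y : L) : L →+ L := AddMonoidHom.mk' (fun x => ⁅x, y⁆) fun a b => add_lie a b y

/-- Left bracket as an additive map. -/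
def lb (x : L) : L →+ L := AddMonoidHom.mk' (fun y => ⁅x, y⁆) (lie_add x)

@[simp] theorem rb_apply (y x : L) : rb y x = ⁅x, y⁆ := rfl

@[simp] theorem lb_apply (x y : L) : lb x y = ⁅x, y⁆ := rfl

theorem lie_lie_right (a b y : L) : ⁅⁅a, b⁆, y⁆ = ⁅⁅a, y⁆, b⁆ + ⁅a, ⁅b, y⁆⁆ := by
  rw [leibniz_lie a b, ← lie_skew b ⁅a, y⁆]; abel

theorem eq_zero_of_mem {X : AddSubgroup L} (h : X = ⊥) {x : L} (hx : x ∈ X) : x = 0 := AddSubgroup.mem_bot.1 (h ▸ hx)

section General

variable {ι : Type*} [AddCommGroup ι] {A A' B B' C M : ι → AddSubgroup L}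

/-- The bracket of graded subgroups. -/
def br (A B : ι → AddSubgroup L) (k : ι) : AddSubgroup L :=
  .closure {x | ∃ i j a b, i + j = k ∧ a ∈ A i ∧ b ∈ B j ∧ ⁅a, b⁆ = x}

theorem lie_mem_br {i j : ι} {a b : L} (ha : a ∈ A i) (hb : b ∈ B j) : ⁅a, b⁆ ∈ br A B (i + j) :=
  AddSubgroup.subset_closure ⟨i, j, a, b, rfl, ha, hb, rfl⟩

theorem br_le' {k : ι} {X : AddSubgroup L} (h : ∀ i j a b, i + j = k → a ∈ A i → b ∈ B j → ⁅a, b⁆ ∈ X) :
    br A B k ≤ X := (AddSubgroup.closure_le _).2 fun _ ⟨i, j, a, b, e, ha, hb, h'⟩ => h' ▸ h i j a b e ha hb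

theorem br_le : br A B ≤ C ↔ ∀ i j a b, a ∈ A i → b ∈ B j → ⁅a, b⁆ ∈ C (i + j) :=
  ⟨fun h _ _ _ _ ha hb => h _ (lie_mem_br ha hb), fun h _ => br_le' fun i j a b e ha hb => e ▸ h i j a b ha hb⟩

theorem br_mono (h : A ≤ A') (h' : B ≤ B') : br A B ≤ br A' B' :=
  br_le.2 fun i j _ _ ha hb => lie_mem_br (h i ha) (h' j hb)

theorem br_br_le (h1 : br A M ≤ A') (h2 : br B M ≤ B') : br (br A B) M ≤ br A' B ⊔ br A B' := by
  refine br_le.2 fun k l x y hx hy => br_le' (X := ((br A' B ⊔ br A B') (k + l)).comap (rb y)) ?_ hx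
  rintro i j a b rfl ha hb
  rw [AddSubgroup.mem_comap, rb_apply, lie_lie_right]
  refine AddSubgroup.add_mem_sup ?_ ?_
  · exact add_right_comm i l j ▸ lie_mem_br (br_le.1 h1 _ _ _ _ ha hy) hb
  · exact add_assoc i j l ▸ lie_mem_br ha (br_le.1 h2 _ _ _ _ hb hy)

theorem br_br_le_self (h1 : br A M ≤ A) (h2 : br B M ≤ B) : br (br A B) M ≤ br A B :=
  (br_br_le h1 h2).trans (sup_idem _).le

/-- The derived series of a graded subgroup. -/
def der : ℕ → (ι → AddSubgroup L) → ι → AddSubgroup L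
  | 0, M => M
  | n + 1, M => br (der n M) (der n M)

/-- The lower central series of a graded subgroup (`lcs M 0 = M`). -/
def lcs (M : ι → AddSubgroup L) : ℕ → ι → AddSubgroup L
  | 0 => M
  | n + 1 => br (lcs M n) M

theorem der_add (m n : ℕ) (M : ι → AddSubgroup L) : der (m + n) M = der n (der m M) := by
  induction n with
  | zero => rfl
  | succ n ih => rw [← add_assoc, der, ih, der]

theorem br_der_le (hM : br M M ≤ M) : ∀ n, br (der n M) (der n M) ≤ der n M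
  | 0 => hM
  | n + 1 => br_mono (br_der_le hM n) (br_der_le hM n)

theorem der_le (hM : br M M ≤ M) : ∀ n, der n M ≤ M
  | 0 => le_rfl
  | n + 1 => (br_der_le hM n).trans (der_le hM n)

theorem br_lcs_le (h : br A M ≤ A) : ∀ n, br (lcs A n) M ≤ lcs A n
  | 0 => h
  | n + 1 => br_br_le_self (br_lcs_le h n) h

theorem lcs_add (M : ι → AddSubgroup L) (m : ℕ) : ∀ n, lcs M (m + n) = (br · M)^[n] (lcs M m)
  | 0 => rfl
  | n + 1 => by rw [← add_assoc, lcs, lcs_add M m n, Function.iterate_succ_apply']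

/-- The graded subring generated by the components with index in `s`. -/
def gen (s : Set ι) (M : ι → AddSubgroup L) : ι → AddSubgroup L := sInf {T | br T T ≤ T ∧ ∀ j ∈ s, M j ≤ T j}

theorem gen_le {s : Set ι} {T : ι → AddSubgroup L} (h1 : br T T ≤ T) (h2 : ∀ j ∈ s, M j ≤ T j) : gen s M ≤ T :=
  sInf_le ⟨h1, h2⟩

theorem br_gen_le (s : Set ι) : br (gen s M) (gen s M) ≤ gen s M :=
  le_sInf fun _ hT => (br_mono (sInf_le hT) (sInf_le hT)).trans hT.1

theorem le_gen {s : Set ι} {j : ι} (hj : j ∈ s) : M j ≤ gen s M j := by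
  classical
  have : Function.update ⊥ j (M j) ≤ gen s M := le_sInf fun _ hT =>
    update_le_iff.2 ⟨hT.2 j hj, fun _ _ => bot_le⟩
  simpa using this j

theorem br_gen_le' (hM : br M M ≤ M) (s : Set ι) (h : ∀ i, ∀ j ∈ s, ∀ a ∈ M i, ∀ b ∈ M j, ⁅a, b⁆ ∈ C (i + j))
    : br M (gen s M) ≤ C := by
  let U : ι → AddSubgroup L := fun l => M l ⊓ ⨅ (i) (y ∈ M i), (C (i + l)).comap (lb y)
  have hU : ∀ {l u}, u ∈ U l ↔ u ∈ M l ∧ ∀ i, ∀ y ∈ M i, ⁅y, u⁆ ∈ C (i + l) := by simp [U]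
  have : gen s M ≤ U := gen_le (br_le.2 fun i j a b ha hb => by
    obtain ⟨ha, ha'⟩ := hU.1 ha
    obtain ⟨hb, hb'⟩ := hU.1 hb
    refine hU.2 ⟨br_le.1 hM _ _ _ _ ha hb, fun k y hy => ?_⟩
    rw [leibniz_lie, ← lie_skew a, ← sub_eq_add_neg]
    exact sub_mem (add_assoc k i j ▸ hb' _ _ (br_le.1 hM _ _ _ _ hy ha))
      (add_comm j i ▸ add_assoc k j i ▸ ha' _ _ (br_le.1 hM _ _ _ _ hy hb))) fun j hj b hb =>
    hU.2 ⟨hb, fun i a ha => h i j hj a ha b hb⟩
  exact br_le.2 fun i j a b ha hb => (hU.1 (this j hb)).2 i a ha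

theorem br_gen_le_of (hM : br M M ≤ M) (s : Set ι) {k : ι} {X : AddSubgroup L}
    (h : ∀ i, ∀ j ∈ s, i + j = k → ∀ a ∈ M i, ∀ b ∈ M j, ⁅a, b⁆ ∈ X) : br M (gen s M) k ≤ X := by
  classical
  simpa using br_gen_le' (C := Function.update ⊤ k X) hM s (fun i j hj a ha b hb => by
    rcases eq_or_ne (i + j) k with e | e
    · simpa [e] using h i j hj e a ha b hb
    · simp [e]) k

end General

section Kreknin

variable {n : ℕ} [NeZero n]

theorem lt_val_of_add {i l j : ZMod n} {k : ℕ} (hi : i ≠ 0) (e : i + l = j) (hl : k < l.val) (hj : j.val = k + 1) :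
    k + 1 < i.val ∧ k + 1 < l.val := by
  subst e
  have h1 := ZMod.val_pos.2 hi
  have h2 := ZMod.val_lt l
  have h3 := ZMod.val_lt i
  have h4 : n ≤ i.val + l.val := by
    by_contra! h
    have := ZMod.val_add_of_lt h
    omega
  have h5 := ZMod.val_add_of_le h4
  omega

theorem der_le_gen (k : ℕ) : ∀ M : ZMod n → AddSubgroup L, br M M ≤ M → M 0 = ⊥ →
    der (2 ^ k - 1) M ≤ gen {j | k < j.val} M := by
  induction k with
  | zero =>
    intro M _ h0 j
    rcases eq_or_ne j 0 with rfl | h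
    · exact h0.le.trans bot_le
    · exact le_gen (ZMod.val_pos.2 h)
  | succ k ih =>
    intro M hM h0
    have e : 2 ^ (k + 1) - 1 = (2 ^ k - 1 + 1) + (2 ^ k - 1) := by have := k.two_pow_pos; omega
    rw [e, der_add]
    refine (ih _ (br_der_le hM _) (eq_bot_iff.2 ((der_le hM _ 0).trans h0.le))).trans
      (gen_le (br_gen_le _) fun j (hj : k < j.val) => ?_)
    rcases (Nat.succ_le_of_lt hj).eq_or_lt with hj' | hj'
    swap
    · exact (der_le hM _ j).trans (le_gen hj')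
    refine (br_mono (der_le hM _) (ih M hM h0) j).trans (br_gen_le_of hM _ fun i l hl e a ha b hb => ?_)
    rcases eq_or_ne i 0 with hi | hi
    · rw [hi] at ha
      rw [eq_zero_of_mem h0 ha, zero_lie]; exact zero_mem _
    obtain ⟨h1, h2⟩ := lt_val_of_add hi e hl hj'.symm
    rw [← e]
    exact br_le.1 (br_gen_le _) _ _ _ _ (le_gen (s := {j : ZMod n | k + 1 < j.val}) h1 ha)
      (le_gen (s := {j : ZMod n | k + 1 < j.val}) h2 hb)

/-- Kreknin's theorem. -/
theorem kreknin {M : ZMod n → AddSubgroup L} (hM : br M M ≤ M) (h0 : M 0 = ⊥) : der (2 ^ (n - 1) - 1) M = ⊥ :=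
  eq_bot_iff.2 ((der_le_gen _ M hM h0).trans (gen_le (br_le.2 fun i j a b ha _ => by
    rw [AddSubgroup.mem_bot.1 ha, zero_lie]; exact zero_mem _) fun j (hj : n - 1 < j.val) => by
      have := ZMod.val_lt j; omega))

end Kreknin

section Higman

variable {ι : Type*} [AddCommGroup ι] {V W M : ι → AddSubgroup L}

/-- Iterated right brackets. -/
def itr : List (ι × L) → L →+ L
  | [] => .id L
  | y :: ys => (itr ys).comp (rb y.2)

/-- Total degree. -/
def dg (ys : List (ι × L)) : ι := (ys.map Prod.fst).sum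

theorem itr_mem (hW : br W M ≤ W) : ∀ ys : List (ι × L), (∀ y ∈ ys, y.2 ∈ M y.1) → ∀ a, ∀ w ∈ W a,
    itr ys w ∈ W (a + dg ys)
  | [], _, a, w, hw => by simpa [dg, itr] using hw
  | y :: ys, h, a, w, hw => by
    have := itr_mem hW ys (fun z hz => h z (.tail _ hz)) _ _ (br_le.1 hW _ _ _ _ hw (h y (.head _)))
    rwa [add_assoc] at this

theorem itr_comm (hV : br V M ≤ V) (hW : br W M ≤ W) (hVW : br V (br M M) ≤ W) {d : ι} {y : L} (hy : y ∈ M d) :
    ∀ ys : List (ι × L), (∀ y ∈ ys, y.2 ∈ M y.1) → ∀ a, ∀ v ∈ V a,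
      itr ys ⁅v, y⁆ - ⁅itr ys v, y⁆ ∈ W (a + dg ys + d)
  | [], _, a, v, _ => by simp [itr]
  | z :: zs, h, a, v, hv => by
    have hz := h z (.head _)
    have h' : ∀ y ∈ zs, y.2 ∈ M y.1 := fun z hz => h z (.tail _ hz)
    have h1 := itr_comm hV hW hVW hy zs h' _ _ (br_le.1 hV _ _ _ _ hv hz)
    have h2 := itr_mem hW zs h' _ _ (br_le.1 hVW _ _ _ _ hv (lie_mem_br hy hz))
    change itr zs ⁅⁅v, y⁆, z.2⁆ - ⁅itr zs ⁅v, z.2⁆, y⁆ ∈ W (a + (z.1 + dg zs) + d)
    rw [lie_lie_right, map_add, add_sub_right_comm]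
    refine add_mem (by rwa [← add_assoc]) ?_
    convert h2 using 2
    abel

open scoped Pointwise

/-- Subset sums of the degrees. -/
def ssum [DecidableEq ι] : List (ι × L) → Finset ι
  | [] => {0}
  | y :: ys => ssum ys + {0, y.1}

theorem itr_mem_of_ssum [DecidableEq ι] (hV : br V M ≤ V) (hW : br W M ≤ W) (hVW : br V (br M M) ≤ W)
    (h0 : V 0 = ⊥) : ∀ ys : List (ι × L), (∀ y ∈ ys, y.2 ∈ M y.1) → ∀ a, ∀ v ∈ V a, -a ∈ ssum ys →
      itr ys v ∈ W (a + dg ys)
  | [], _, a, v, hv, ha => by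
    obtain rfl : a = 0 := by simpa [ssum] using ha
    rw [eq_zero_of_mem h0 hv, map_zero]; exact zero_mem _
  | y :: ys, h, a, v, hv, ha => by
    have hy := h y (.head _)
    have h' : ∀ y ∈ ys, y.2 ∈ M y.1 := fun z hz => h z (.tail _ hz)
    obtain ⟨s, hs, t, ht, e⟩ := Finset.mem_add.1 ha
    change itr ys ⁅v, y.2⁆ ∈ W (a + (y.1 + dg ys))
    rcases Finset.mem_insert.1 ht with rfl | ht
    · rw [← sub_add_cancel (itr ys _) ⁅itr ys v, y.2⁆, add_comm y.1, ← add_assoc]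
      exact add_mem (itr_comm hV hW hVW hy ys h' a v hv) (br_le.1 hW _ _ _ _
        (itr_mem_of_ssum hV hW hVW h0 ys h' a v hv (by rwa [← e, add_zero])) hy)
    · rw [← add_assoc]
      exact itr_mem_of_ssum hV hW hVW h0 ys h' _ _ (br_le.1 hV _ _ _ _ hv hy)
        (by rwa [neg_add, ← e, Finset.mem_singleton.1 ht, add_neg_cancel_right])

variable {p : ℕ} [hp : Fact p.Prime]

omit [LieRing L] in
theorem card_ssum : ∀ ys : List (ZMod p × L), (∀ y ∈ ys, y.1 ≠ 0) → min p (ys.length + 1) ≤ (ssum ys).card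
  | [], _ => by simp [ssum]
  | y :: ys, h => by
    have h1 := card_ssum ys fun z hz => h z (.tail _ hz)
    have h2 := hp.1.pos
    have h3 := ZMod.cauchy_davenport hp.1 (s := ssum ys) (t := {0, y.1}) (Finset.card_pos.1 (by omega)) (by simp)
    rw [Finset.card_pair (h y (.head _)).symm] at h3
    rw [ssum, List.length_cons]
    omega

theorem iterate_br_le {V W M : ZMod p → AddSubgroup L} (hV : br V M ≤ V) (hW : br W M ≤ W)
    (hVW : br V (br M M) ≤ W) (h0 : V 0 = ⊥) (h0' : M 0 = ⊥) : (br · M)^[p - 1] V ≤ W := by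
  have key : ∀ m (ys : List (ZMod p × L)), (∀ y ∈ ys, y.2 ∈ M y.1 ∧ y.1 ≠ 0) → ys.length + m = p - 1 →
      ∀ k, ∀ x ∈ (br · M)^[m] V k, itr ys x ∈ W (k + dg ys) := fun m => by
    induction m with
    | zero =>
      intro ys h hl k x hx
      refine itr_mem_of_ssum hV hW hVW h0 ys (fun y hy => (h y hy).1) k x hx ?_
      have h1 := card_ssum ys fun y hy => (h y hy).2
      have h2 := hp.1.pos
      rw [(ssum ys).eq_univ_of_card (le_antisymm (Finset.card_le_univ _) (by rw [ZMod.card]; omega))]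
      exact Finset.mem_univ _
    | succ m ih =>
      intro ys h hl k x hx
      rw [Function.iterate_succ_apply'] at hx
      refine br_le' (X := (W (k + dg ys)).comap (itr ys)) ?_ hx
      rintro i j a b rfl ha hb
      rcases eq_or_ne j 0 with rfl | hj
      · rw [eq_zero_of_mem h0' hb, lie_zero]; exact zero_mem _
      rw [add_assoc]
      exact ih ((j, b) :: ys) (List.forall_mem_cons.2 ⟨⟨hb, hj⟩, h⟩) (by rw [List.length_cons]; omega) i a ha
  exact fun k x hx => by simpa [dg, itr] using key _ [] (by simp) (by simp) k x hx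

theorem lcs_eq_bot_of_der (s : ℕ) : ∀ M : ZMod p → AddSubgroup L, br M M ≤ M → M 0 = ⊥ → der s M = ⊥ →
    lcs M (∑ i ∈ .range s, (p - 1) ^ i) = ⊥ := by
  induction s with
  | zero => exact fun M _ _ h => h
  | succ s ih =>
    intro M hM h0 h
    have h0' : br M M 0 = ⊥ := eq_bot_iff.2 ((hM 0).trans h0.le)
    have h1 := ih (br M M) (br_mono hM hM) h0' (by rwa [add_comm, der_add] at h)
    have h2 : ∀ i, lcs M (1 + i * (p - 1)) ≤ lcs (br M M) i := fun i => by
      induction i with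
      | zero => rw [zero_mul]; exact le_rfl
      | succ i ih' =>
        rw [add_mul, one_mul, ← add_assoc, lcs_add]
        have hm : Monotone fun X : ZMod p → AddSubgroup L => br X M := fun _ _ h => br_mono h le_rfl
        refine le_trans (hm.iterate _ ih')
          (iterate_br_le (br_lcs_le (br_mono hM le_rfl) _) (br_lcs_le (br_mono hM le_rfl) _) le_rfl ?_ h0)
        refine eq_bot_iff.2 (le_trans ?_ h0'.le)
        exact antitone_nat_of_succ_le (f := lcs (br M M)) (br_lcs_le (br_mono hM hM)) i.zero_le 0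
    rw [Finset.sum_range_succ', pow_zero, add_comm]
    simp_rw [pow_succ, ← Finset.sum_mul]
    exact eq_bot_iff.2 ((h2 _).trans h1.le)

/-- The Higman–Kreknin–Kostrikin theorem. -/
theorem higman {M : ZMod p → AddSubgroup L} (hM : br M M ≤ M) (h0 : M 0 = ⊥) :
    lcs M (∑ i ∈ .range (2 ^ (p - 1) - 1), (p - 1) ^ i) = ⊥ :=
  haveI : NeZero p := ⟨hp.1.ne_zero⟩
  lcs_eq_bot_of_der _ M hM h0 (kreknin hM h0)

theorem lcs_two_eq_bot {M : ZMod 3 → AddSubgroup L} (hM : br M M ≤ M) (h0 : M 0 = ⊥) : lcs M 2 = ⊥ := by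
  refine eq_bot_iff.2 (br_le.2 fun k l x c hx hc => br_le' (X := (⊥ : AddSubgroup L).comap (rb c)) ?_ hx)
  rintro i j a b rfl ha hb
  have z : ∀ {i x}, x ∈ M i → i = 0 → x = 0 := fun hx e => AddSubgroup.mem_bot.1 (h0 ▸ e ▸ hx)
  have m := br_le.1 hM
  have : ∀ i j l : ZMod 3, i = 0 ∨ j = 0 ∨ l = 0 ∨ i + j = 0 ∨ i + j + l = 0 ∨ (i + l = 0 ∧ j + l = 0) := by decide
  change ⁅⁅a, b⁆, c⁆ = 0
  rcases this i j l with h | h | h | h | h | h
  · simp [z ha h]
  · simp [z hb h]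
  · simp [z hc h]
  · rw [z (m _ _ _ _ ha hb) h, zero_lie]
  · exact z (m _ _ _ _ (m _ _ _ _ ha hb) hc) h
  · simp [z (m _ _ _ _ ha hc) h.1, z (m _ _ _ _ hb hc) h.2]

end Higman

end Cfsg.Lib.Lie
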